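import Mathlib

/-! A generating submodule over a local ring with infinite residue field contains a basis. -/

universe u

namespace Groth.Agent.MiscAlg

variable {B A M : Type u} [CommRing B] [CommRing A] [IsLocalRing B] [Algebra B A]
  [AddCommGroup M] [Module A M] [Module B M] [IsScalarTower B A M]

/-- Avoiding finitely many proper submodules containing `𝔪_B N`. -/
theorem exists_avoid [Infinite (IsLocalRing.ResidueField B)] {ι : Type*} [Finite ι]
    {N : Type u} [AddCommGroup N] [Module B N] (p : ι → Submodule B N) (hp : ∀ i, p i ≠ ⊤)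
    (hm : ∀ i, IsLocalRing.maximalIdeal B • (⊤ : Submodule B N) ≤ p i) :
    ∃ x : N, ∀ i, x ∉ p i := by
  set P := IsLocalRing.maximalIdeal B • (⊤ : Submodule B N)
  letI : Field (B ⧸ IsLocalRing.maximalIdeal B) := Ideal.Quotient.field _
  haveI : Infinite (B ⧸ IsLocalRing.maximalIdeal B) :=
    inferInstanceAs (Infinite (IsLocalRing.ResidueField B))
  let q : ι → Submodule (B ⧸ IsLocalRing.maximalIdeal B) (N ⧸ P) := fun i =>
    { (p i).map P.mkQ with
      smul_mem' := fun c x hx => by
        obtain ⟨b, rfl⟩ := Ideal.Quotient.mk_surjective c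
        exact ((p i).map P.mkQ).smul_mem b hx }
  have hq : ∀ i, q i ≠ ⊤ := fun i h => hp i (eq_top_iff.mpr fun y _ => by
    have hy : P.mkQ y ∈ q i := h ▸ trivial
    obtain ⟨z, hz, hzy⟩ := (hy : P.mkQ y ∈ (p i).map P.mkQ)
    have : y - z ∈ p i := hm i ((Submodule.Quotient.eq P).mp hzy.symm)
    simpa using (p i).add_mem this hz)
  obtain ⟨y, hy⟩ := Submodule.exists_forall_notMem_of_forall_ne_top q hq
  obtain ⟨x, rfl⟩ := P.mkQ_surjective y
  exact ⟨x, fun i hx => hy i (Submodule.mem_map_of_mem hx)⟩

theorem exists_basis_mem [Infinite (IsLocalRing.ResidueField B)] [Finite (MaximalSpectrum A)]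
    (hBA : (IsLocalRing.maximalIdeal B).map (algebraMap B A) ≤ (⊥ : Ideal A).jacobson)
    {n : ℕ} (b : Module.Basis (Fin n) A M)
    (N : Submodule B M) (hN : Submodule.span A (N : Set M) = ⊤) :
    ∃ v : Module.Basis (Fin n) A M, ∀ i, v i ∈ N := by
  classical
  let π : ∀ m : MaximalSpectrum A, M →ₗ[A] (Fin n → A ⧸ m.asIdeal) := fun m =>
    (LinearMap.pi fun i => (Submodule.mkQ m.asIdeal).comp (LinearMap.proj i)).comp
      b.equivFun.toLinearMap
  have hπsurj : ∀ m, Function.Surjective (π m) := fun m f => by
    choose g hg using fun i => Ideal.Quotient.mk_surjective (f i)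
    refine ⟨b.equivFun.symm g, funext fun i => ?_⟩
    change Submodule.mkQ m.asIdeal (b.equivFun (b.equivFun.symm g) i) = f i
    rw [LinearEquiv.apply_symm_apply]
    exact hg i
  have step : ∀ k, k ≤ n → ∃ v : Fin k → N, ∀ m : MaximalSpectrum A,
      LinearIndependent (A ⧸ m.asIdeal) (fun i => π m (v i : M)) := by
    intro k
    induction k with
    | zero => exact fun _ => ⟨Fin.elim0, fun m => linearIndependent_empty_type⟩
    | succ k ih =>
      intro hk
      obtain ⟨v, hv⟩ := ih (Nat.le_of_succ_le hk)
      let p : MaximalSpectrum A → Submodule B N := fun m =>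
        { carrier := {x | π m (x : M) ∈ Submodule.span (A ⧸ m.asIdeal)
            (Set.range fun i => π m (v i : M))}
          add_mem' := fun hx hy => by
            simpa using Submodule.add_mem _ hx hy
          zero_mem' := by simp
          smul_mem' := fun c x hx => by
            simp only [Set.mem_setOf_eq, Submodule.coe_smul] at hx ⊢
            rw [← IsScalarTower.algebraMap_smul A c (x : M), map_smul]
            exact Submodule.smul_mem _ (Ideal.Quotient.mk m.asIdeal (algebraMap B A c)) hx }
      have hp : ∀ m, p m ≠ ⊤ := by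
        intro m h
        haveI := m.isMaximal
        letI : Field (A ⧸ m.asIdeal) := Ideal.Quotient.field _
        have h' : Submodule.span (A ⧸ m.asIdeal) (Set.range fun i => π m (v i : M)) = ⊤ := by
          refine eq_top_iff.mpr fun f hf => ?_
          clear hf
          obtain ⟨x, rfl⟩ := hπsurj m f
          have hx : x ∈ Submodule.span A (N : Set M) := hN ▸ trivial
          induction hx using Submodule.span_induction with
          | mem y hy => exact (h ▸ trivial : (⟨y, hy⟩ : N) ∈ p m)
          | zero => simp
          | add y z _ _ hy hz => rw [map_add]; exact Submodule.add_mem _ hy hz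
          | smul a y _ hy =>
            rw [map_smul]
            exact Submodule.smul_mem _ (Ideal.Quotient.mk m.asIdeal a) hy
        have := finrank_range_le_card (R := A ⧸ m.asIdeal) (fun i => π m (v i : M))
        rw [Set.finrank, h', finrank_top, Module.finrank_fin_fun, Fintype.card_fin] at this
        omega
      have hm : ∀ m, IsLocalRing.maximalIdeal B • (⊤ : Submodule B N) ≤ p m := fun m =>
        Submodule.smul_le.mpr fun c hc x _ => by
          have hc' : algebraMap B A c ∈ m.asIdeal :=
            (Ideal.mem_sInf.mp (hBA (Ideal.mem_map_of_mem _ hc))) ⟨bot_le, m.isMaximal⟩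
          show π m ((c • x : N) : M) ∈ Submodule.span (A ⧸ m.asIdeal)
            (Set.range fun i => π m (v i : M))
          rw [Submodule.coe_smul, ← IsScalarTower.algebraMap_smul A c (x : M), map_smul]
          have : algebraMap B A c • π m (x : M) = 0 := by
            funext i
            obtain ⟨z, hz⟩ := Ideal.Quotient.mk_surjective (π m (x : M) i)
            rw [Pi.smul_apply, ← hz]
            exact Ideal.Quotient.eq_zero_iff_mem.mpr (m.asIdeal.mul_mem_right _ hc')
          rw [this]
          exact zero_mem _
      obtain ⟨x, hx⟩ := exists_avoid p hp hm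
      refine ⟨Fin.cons x v, fun m => ?_⟩
      haveI := m.isMaximal
      letI : Field (A ⧸ m.asIdeal) := Ideal.Quotient.field _
      have e : (fun i => π m ((Fin.cons x v : Fin (k + 1) → N) i : M)) =
          Fin.cons (π m (x : M)) (fun i => π m (v i : M)) := by
        funext i
        refine Fin.cases rfl (fun i => rfl) i
      rw [e, linearIndependent_finCons]
      exact ⟨hv m, hx m⟩
  obtain ⟨v, hv⟩ := step n le_rfl
  have hunit : IsUnit (Matrix.of fun i j => b.equivFun (v i : M) j).det := by
    by_contra h
    obtain ⟨m, hm, hdet⟩ := exists_max_ideal_of_mem_nonunits h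
    letI : Field (A ⧸ m) := Ideal.Quotient.field _
    have hli : LinearIndependent (A ⧸ m)
        ((Matrix.of fun i j => b.equivFun (v i : M) j).map (Ideal.Quotient.mk m)).row := by
      convert hv ⟨m, hm⟩ using 1
      rfl
    rw [Matrix.linearIndependent_rows_iff_isUnit, Matrix.isUnit_iff_isUnit_det, isUnit_iff_ne_zero,
      ← RingHom.mapMatrix_apply, ← RingHom.map_det] at hli
    exact hli (Ideal.Quotient.eq_zero_iff_mem.mpr hdet)
  have hb : IsUnit (b.det fun i => (v i : M)) := by
    rw [Module.Basis.det_apply]
    have : b.toMatrix (fun i => (v i : M)) =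
        (Matrix.of fun i j => b.equivFun (v i : M) j).transpose := by
      ext i j
      simp [Module.Basis.toMatrix_apply]
    rw [this, Matrix.det_transpose]
    exact hunit
  obtain ⟨hli, hsp⟩ := (Module.Basis.is_basis_iff_det b).mpr hb
  exact ⟨Module.Basis.mk hli hsp.ge, fun i => by rw [Module.Basis.mk_apply]; exact (v i).2⟩

end Groth.Agent.MiscAlg
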