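import Mathlib

/-! The trace of a finite-dimensional local algebra. -/

universe u v

namespace Groth.Agent.MiscAlg

theorem trace_eq_add {k : Type u} {V : Type v} [Field k] [AddCommGroup V] [Module k V]
    [FiniteDimensional k V] (f : V →ₗ[k] V) (p : Submodule k V) (hp : ∀ x ∈ p, f x ∈ p) :
    LinearMap.trace k V f = LinearMap.trace k p (f.restrict hp) +
      LinearMap.trace k (V ⧸ p) (p.mapQ p f hp) := by
  obtain ⟨s, hs⟩ := p.mkQ.exists_rightInverse_of_surjective (Submodule.range_mkQ p)
  have hπ : ∀ x, x - s (p.mkQ x) ∈ p := fun x => by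
    rw [← Submodule.Quotient.mk_eq_zero, Submodule.Quotient.mk_sub, sub_eq_zero]
    exact (LinearMap.congr_fun hs (p.mkQ x)).symm
  let π : V →ₗ[k] p := (LinearMap.id - s ∘ₗ p.mkQ).codRestrict p hπ
  have hsplit : f = (f ∘ₗ p.subtype) ∘ₗ π + (f ∘ₗ s) ∘ₗ p.mkQ := LinearMap.ext fun x => by
    simp [π, ← map_add]
  have h1 : π ∘ₗ f ∘ₗ p.subtype = f.restrict hp := LinearMap.ext fun x => Subtype.ext (by
    simp [π, (Submodule.Quotient.mk_eq_zero p).mpr (hp x x.2)])
  have h2 : p.mkQ ∘ₗ f ∘ₗ s = p.mapQ p f hp := LinearMap.ext fun y => by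
    have := LinearMap.congr_fun hs y
    simp only [LinearMap.comp_apply, LinearMap.id_apply, Submodule.mkQ_apply] at this
    simp only [LinearMap.comp_apply, Submodule.mkQ_apply]
    conv_rhs => rw [← this, Submodule.mapQ_apply]
  conv_lhs => rw [hsplit]
  rw [map_add, LinearMap.trace_comp_comm' π, LinearMap.trace_comp_comm' p.mkQ, h1, h2]

variable {k A : Type u} [Field k] [CommRing A] [Algebra k A] [FiniteDimensional k A] [IsLocalRing A]

theorem trace_lsmul_eq (x : A) : ∀ (d : ℕ) (V : Type u) [AddCommGroup V] [Module k V] [Module A V]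
    [IsScalarTower k A V] [FiniteDimensional k V], Module.finrank k V = d →
    LinearMap.trace k V (Algebra.lsmul k k V x) =
      (Module.length A V).toNat • Algebra.trace k (IsLocalRing.ResidueField A) (IsLocalRing.residue A x) := by
  intro d
  induction d using Nat.strong_induction_on with
  | _ d ih =>
    intro V _ _ _ _ _ hd
    rcases subsingleton_or_nontrivial V with hV | hV
    · have : Algebra.lsmul k k V x = 0 := LinearMap.ext fun v => Subsingleton.elim _ _
      rw [this, map_zero, Module.length_eq_zero]
      simp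
    haveI : IsArtinian k V := inferInstance
    haveI : IsArtinian A V := isArtinian_of_tower k inferInstance
    haveI : IsNoetherian A V := isNoetherian_of_tower k inferInstance
    obtain ⟨S, hSa, -⟩ := (eq_bot_or_exists_atom_le (⊤ : Submodule A V)).resolve_left top_ne_bot
    have hS : IsSimpleModule A S := isSimpleModule_iff_isAtom.mpr hSa
    obtain ⟨I, hI, ⟨e⟩⟩ := isSimpleModule_iff_quot_maximal.mp hS
    obtain rfl : I = IsLocalRing.maximalIdeal A := IsLocalRing.eq_maximalIdeal hI
    let p := S.restrictScalars k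
    have hp : ∀ v ∈ p, Algebra.lsmul k k V x v ∈ p := fun v hv => S.smul_mem x hv
    have hlt : Module.finrank k (V ⧸ p) < d := by
      have := Submodule.finrank_quotient_add_finrank p
      haveI : Nontrivial p := IsSimpleModule.nontrivial A S
      have h0 := Module.finrank_pos (R := k) (M := p)
      omega
    have hsum := trace_eq_add (Algebra.lsmul k k V x) p hp
    have hq : LinearMap.trace k (V ⧸ p) (p.mapQ p (Algebra.lsmul k k V x) hp) =
        LinearMap.trace k (V ⧸ S) (Algebra.lsmul k k (V ⧸ S) x) := by
      let eq : (V ⧸ p) ≃ₗ[k] (V ⧸ S) := Submodule.Quotient.restrictScalarsEquiv k S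
      rw [← LinearMap.trace_conj' _ eq]
      congr 1
      refine LinearMap.ext fun y => ?_
      obtain ⟨v, rfl⟩ := S.mkQ_surjective y
      rw [LinearEquiv.conj_apply]
      rfl
    have hr : LinearMap.trace k p ((Algebra.lsmul k k V x).restrict hp) =
        Algebra.trace k (IsLocalRing.ResidueField A) (IsLocalRing.residue A x) := by
      let ep : p ≃ₗ[k] IsLocalRing.ResidueField A := (show S ≃ₗ[A] IsLocalRing.ResidueField A from e).restrictScalars k
      rw [Algebra.trace_apply, ← LinearMap.trace_conj' _ ep]
      congr 1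
      refine LinearMap.ext fun y => ?_
      obtain ⟨v, rfl⟩ := ep.surjective y
      rw [LinearEquiv.conj_apply]
      simp only [LinearMap.comp_apply, LinearEquiv.coe_coe, LinearEquiv.symm_apply_apply]
      show (show S ≃ₗ[A] IsLocalRing.ResidueField A from e) (x • (show S from v)) = _
      rw [map_smul, Algebra.smul_def]
      rfl
    have hlen : Module.length A V = 1 + Module.length A (V ⧸ S) := by
      rw [Module.length_eq_add_of_exact S.subtype S.mkQ S.injective_subtype S.mkQ_surjective
        (LinearMap.exact_subtype_mkQ S), Module.length_eq_one_iff.mpr hS]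
    have hfin : Module.length A (V ⧸ S) ≠ ⊤ := Module.length_ne_top
    haveI : FiniteDimensional k (V ⧸ S) :=
      Module.Finite.of_surjective (Submodule.Quotient.restrictScalarsEquiv k S).toLinearMap
        (Submodule.Quotient.restrictScalarsEquiv k S).surjective
    have hfr : Module.finrank k (V ⧸ S) < d := by
      rwa [← (Submodule.Quotient.restrictScalarsEquiv k S).finrank_eq]
    rw [hsum, hq, hr, ih _ hfr (V ⧸ S) rfl, hlen, ENat.toNat_add (by simp) hfin, add_smul]
    simp

theorem trace_ne_zero_iff : Algebra.trace k A ≠ 0 ↔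
    (Algebra.IsSeparable k (IsLocalRing.ResidueField A) ∧
      ∀ p : ℕ, p.Prime → CharP k p → ¬ p ∣ (Module.length A A).toNat) := by
  set L := (Module.length A A).toNat with hL
  have key : ∀ x : A, Algebra.trace k A x =
      (L : k) * Algebra.trace k (IsLocalRing.ResidueField A) (IsLocalRing.residue A x) := fun x => by
    rw [← nsmul_eq_mul, hL, ← trace_lsmul_eq x _ A rfl]
    rfl
  haveI : IsArtinianRing A := isArtinian_of_tower k inferInstance
  haveI : IsNoetherianRing A := isNoetherian_of_tower k inferInstance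
  have hL0 : L ≠ 0 := by
    rw [hL]
    simp [ENat.toNat_eq_zero, Module.length_ne_top, Module.length_eq_zero_iff, not_subsingleton]
  have hcast : (L : k) ≠ 0 ↔ ∀ p : ℕ, p.Prime → CharP k p → ¬ p ∣ L := by
    refine ⟨fun h p _ _ hd => h ((CharP.cast_eq_zero_iff k p L).mpr hd), fun h h0 => ?_⟩
    obtain ⟨q, hq⟩ := CharP.exists k
    rcases CharP.char_is_prime_or_zero k q with hq' | rfl
    · exact h q hq' hq ((CharP.cast_eq_zero_iff k q L).mp h0)
    · exact hL0 (by simpa using (CharP.cast_eq_zero_iff k 0 L).mp h0)
  have hsep : Algebra.trace k (IsLocalRing.ResidueField A) ≠ 0 ↔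
      Algebra.IsSeparable k (IsLocalRing.ResidueField A) :=
    ⟨fun h => by_contra fun hns => h (Algebra.trace_eq_zero_of_not_isSeparable hns),
      fun _ => Algebra.trace_ne_zero _ _⟩
  rw [← hcast, ← hsep]
  constructor
  · intro h
    refine ⟨fun h0 => h (LinearMap.ext fun x => ?_), fun h0 => h (LinearMap.ext fun x => ?_)⟩
    · simp [key, h0]
    · simp [key, h0]
  · rintro ⟨h1, h2⟩ h0
    refine h1 (LinearMap.ext fun y => ?_)
    obtain ⟨x, rfl⟩ := IsLocalRing.residue_surjective y
    have := key x
    rw [h0, LinearMap.zero_apply] at this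
    simpa using (mul_eq_zero.mp this.symm).resolve_left h2

end Groth.Agent.MiscAlg
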